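import Cfsg.Agent.SB.Spor.Anchor

/-! S5765, row of HS: data (generated by notes/SB/spor_tools, helper63) -/

set_option autoImplicit false

namespace Cfsg.Agent.SB.SporF.HS

open Cfsg.Agent.SB Cfsg.Agent.SB.Spor

noncomputable def lk (t i : ℕ) : ℕ := Nat.land (Nat.shiftRight t (Nat.mul (nat_lit 7) i)) (nat_lit 127)

noncomputable def mk : (ℕ → ℕ) → ℕ := pmk (nat_lit 7) (nat_lit 127) (nat_lit 100) (nat_lit 7)

noncomputable def ver : (ℕ → ℕ) → ℕ → (ℕ → ℕ) → Bool := pver (nat_lit 7) (nat_lit 127) (nat_lit 100)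

noncomputable def t0 : ℕ :=
  nat_lit 0xbb62bd6ab4b1d4a13a8e2c382fdc817acdb7969dbe8f2653496c99c261117535b31ccf9aa1eb64ee11c88b190c33f05f9d366933a6ea4b966a518935e4961956a8e0d4a9062240788111024c150a1870f06285820e10001

noncomputable def t1 : ℕ :=
  nat_lit 0xb58b0e3b7668d0bf626cc951e1c19cfdf3ca8eef3a6f21a57854deb05eba7ada4b22a951815a56a8e4a27286e1faa78ea46710c17ac59915292c99c249c8901e386b18c32e8b1424d8880d838534e150332101060201026

noncomputable def t2 : ℕ :=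
  nat_lit 0x9cfb0e386fecdb793665868ca82e5b45dd5a98941d808abca6692e415ec095abce86bda5813954a8e449271149fbf3d608203d88c2e6eeb5291932a3c0dbc2426038e0b5a38b08584d3226a2cb32080ab6c003383829039

noncomputable def t3 : ℕ :=
  nat_lit 0x9b324969ef9d9e6189d2c91457dfb07545c6f79695a95c2947f0cd1faaf1cd24e3cbd0ad2c4b4c71d9618381092481eca54ccc8c616a4e5d9429586b68c8191c6d720b48a2c21ae272a62f4053084c44006da20118d4c02

noncomputable def t4 : ℕ :=
  nat_lit 0xc71d1285ec1dd77ab10e2c205e3112d4e298b2120869181b926f975925119267e960d656151d09574c5e2800b191f60fd25b7d3cda97014c3c6858c1a1a5d5c100543a2e27109f69baa6611b42407471ba656dc90e44bba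

noncomputable def t5 : ℕ :=
  nat_lit 0x3a3e4862e52f11435de41874e7e11d6d480c10153b0266ea70a242390655618469a11e6519c3a0ebc60b6f2d722347df529b89836156ab457b628df9cb54354b56e4a2640920a80989c566d24ca0fda0d8f8d988b320b44

noncomputable def t6 : ℕ :=
  nat_lit 0x1620e1ac6986578238f90b33822944a81bb58be04d26fedd5ac81b16b05712137130007d7e398bc9180257258ccb5446a36551a0167197423b0cf61a129e091e465dc5ae29120aea44f6a6438a4adeea87a51c970d153d3

noncomputable def t7 : ℕ :=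
  nat_lit 0xbc6260baad6d2f3e8dca869717457785f278609094a37516214eadc400a4ccb2eb1b319526126549243f0c2440f250668c5a54eabc740d530671e0426f5bd42c4290eac963ce0a45060b0e008d661cdb0b2ca3573d7e7c0

noncomputable def t8 : ℕ :=
  nat_lit 0x353e839c329e82b2c19dfb90649308504ad3f6f11e2e610298a8c401ae188b6baf30129954b0506d1aa1550a2483ac6347363d2af334db8d1471c5aa58c5a71d39fc0a80158c2b2d65876f8826ac92f289b0e88774b9922

noncomputable def t9 : ℕ :=
  nat_lit 0x3c495841a386564c5e5e1af102cf0f7a938728054eb440d80109d7288ac434628970585a904b0ba3dabf54088981704d2f468a0012750abb9a0d9c9a0a615bc4da45568dcb59c73161974f50be3af0e43951cfd1bf71953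

noncomputable def t10 : ℕ :=
  nat_lit 0x1ae19a226a6e827adc02158052a6a4128c0b36aa1c613a809ac622c28620594560e6de7329558741da9748b88beae74a86a68242f6d6efb42d3c6103326e2714b4d23c23cf9e0b2e23b8d8cde28e39e3198a2abf24ca0e0

noncomputable def t11 : ℕ :=
  nat_lit 0x8c3db332f36f4226fc9193abe7d1bb8c6cc787c014762a9098a162318f585db069c62a952683796c1a8ea75c362050672c908dd438082aa63656fbd72844164b51f1cb41c22db092e3869855d96440d2e44a14983c048e0

noncomputable def t12 : ℕ :=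
  nat_lit 0xa0cd839923e528b5489035c212a252f4814569131c1a81c5584840828b1161e813cace0a5cc3bbad9ad368c98ccaf7098b74b712f0024f844ea9f8a0f1888c36f0b517c3add9a98e1e09b611e1acdef41911ef9a3218ecb

noncomputable def t13 : ℕ :=
  nat_lit 0x2b4c6e0205a8424e6a019222c60e7225a2b7d287cb3f31b37656ab9d02098d842989a4bf8d9a90945a85310c4548e1a6ac076dda846f2ccf4029d2a9c5e2dd37852e26149fde25562380e7a33d8320a5601724a238b97ad

noncomputable def t14 : ℕ :=
  nat_lit 0x19452600b795c4389644eaec46cf7775b09aaf1d00c21f15a5ede2ae644440e965d69568799988d25a90731eb308619ec1400d481468acbf2884fd24c64150363e6df089ec1694f8ed3c732a1a584ed8b1571c125509440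

noncomputable def t15 : ℕ :=
  nat_lit 0x12a66b8a654a2f563c9878a2d25d0a97004603118d2d564d8b93830250b9622b36e83a6d51a3b5b45adf210e083851d356152cc448d49b803248b9ac3280be373cfb37b3203cc7788e2909d50e6271f88b475ca140cab9e

noncomputable def t16 : ℕ :=
  nat_lit 0x2b4c6e0205a8424e6a019222c60e7225a2b7d287cb3f31b37656ab9d02098d842989a4bf8d9a90945a85310c4548e1a6ac076dda846f2ccf4029d2a9c5e2dd37852e26149fde25562380e7a33d8320a5601724a238b97ad

noncomputable def t17 : ℕ :=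
  nat_lit 0x78da039763c55c284a94e5c21125a6e9c5a476e31e08dc81f8a840c78446b1c6068a83c058c49bacdaa9695d8cc64a09c17ab712fb2fea8d1c1c4ca549a25e3740bdfc69d20090f8305c32d5cd588060ba80a8cf330ced8

noncomputable def t18 : ℕ :=
  nat_lit 0x4f4d1e2c0b692e084e650642d0a49226f9f788250ec671dde5e0e15c3a098949b75d4b70adb512a15aa9721a0ce88a0608241d9c35521e961e78d0d4b663bf362aa106e65330b5622b4458631758faad60004c5b815c8cf

noncomputable def t19 : ℕ :=
  nat_lit 0x357dbd377350c2ab2c93c05053d0693a494327cf4c2e29c968a721868ec85c0c33deaac4368b67e41ae067718ca3abf1ac4560c44b6809d94a5478ca57970936b5f05b41d5d44692bb8ba0c226acc230890a14ba004408e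

noncomputable def t20 : ℕ :=
  nat_lit 0x1581fb670b5f2ea9003bcae2e82668ae8cf4318759246a49984562816446b14a52ded8a6959989ca5a90720a0838f72f08c2ab1449834784747ea97132a1a23600b054831b93b5757bb478edc86334e2c4ea2fa0607431e

noncomputable def t21 : ℕ :=
  nat_lit 0x6042953c536ac2424cb2a86c6d24522648c747c1be40b5c923afc128b95c58d2a11ebc77019b8397da85a31e0ca8abf1888d60c440e5e58fa986c946e388ce362a6604f6d5a5bb41936467a7c8ac6912c4c19a1900b80de

noncomputable def t22 : ℕ :=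
  nat_lit 0x95830e2beb425cab309d8af06da1a74a48d4d1805a2f8e8ba3b3a2815e0ab275691ebc69219852aa5abb724458386baf2c7ea9b06813c63e328aa12382a39f3639198963db87b2819102c6a825627848828a1c5d610a24d

noncomputable def t23 : ℕ :=
  nat_lit 0x5ae0f85c4383c7475132a3b05016c0fd9979e26f3a90c248f5f49928aeb98998d01ed820368df44eda98720ab1ab84452c9cf1a06244d3d518728242a021b73729f29436b0ddb296136973665b178d58829129843d14083

noncomputable def t24 : ℕ :=
  nat_lit 0xc609343893d20774e4e5d3c04a4b112ab349320d92608d703b4f4b0f017e0a7aa39590b94cea8811df0616dd619a378a91c0cebb8c56ea189c3550c0a968596ab54b17f8669715184c2406a93c5e4ec4508d993b447d0cc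

noncomputable def t25 : ℕ :=
  nat_lit 0xc69cb2b84bac3b4d1ce095345fa5743579dbc8ca80a94a7ce6c4845fc0420b72ed630c096ed286418dd05414c4b1724d317a84cb88184f5d940c08f055dcd99a3982429156d5153163c88f9120664c8d3b8d0f87918ab43

noncomputable def t26 : ℕ :=
  nat_lit 0x516c2be1d784dc6f0c9c44b50b8d4f4482f5ce511d331e4aa42d0160b4f45617760d92290199c10ae9465315e4a3d3e4186c3e7412cca5a0022d800a60e6382292bddaa7d887b2561355a8c34d198d6627f59d04a09af9a

noncomputable def t27 : ℕ :=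
  nat_lit 0x14220440378c5cc50c9be3218bd63ed69035ca461d4ac24ad94d1958b44543a0f821317e1671cb6ac8467298aa1a13c7896d219e3a60ab9a1d363a42cbe6387a025acaa9c93bb2f0dd1557ea0b4506eb728370843d151a0

noncomputable def t28 : ℕ :=
  nat_lit 0xc785947a3265843f30e30ba82a91c4386609e6e93458faf4d247602f6d5a0db280dca17608013751912b854cf3178b91d7b57d20a4c144d46ab62338b621d91b38c252ede53f71414811720d2a20a0ca70ef445c2a58786

noncomputable def t29 : ℕ :=
  nat_lit 0xc74f1505526b8480ace1e590aaa46536f929e6a45aba56f0ec0d8fa13ace0c5292832f76dde932d0d1cc418585888b914b683088a109cc295ad5e56b6c63599c344992e081bf711ea0b0348dd11ea12850e0135c7ce8839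

noncomputable def t30 : ℕ :=
  nat_lit 0xc67ed801f24c04a676ca44a84bb08a8c0865c0dac6333af2272af0a099120e2286b0420e228384f687365f008a9ad3e689862cf2804ea5b191499bc6551a1c7c56bacaa98dbf26f6c5f18b6510a22ae96771dbdc1a15512

noncomputable def t31 : ℕ :=
  nat_lit 0xc7022bd2124484c2dac9132bcb9eb6885b95d296c34a36f230d329c256f20b2286c9200e9a3b80ad269d427d254673c7188c058286e5abd8a522b44c4a6d1c2afa5ddaa20d3f260188cbed418f542963a774015c9c9e8e0

noncomputable def t32 : ℕ :=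
  nat_lit 0x8209d3d9b255dc112eca4b46eab02d464395d0865d68f2f2a0c6134a12371a728bc9030f4e393c49485734dc8a92b3c7cc5948f283f6ceb1022df4e0b50c9c6759b432f850bf7002c2d6b7d00e462a345774200488c9160

noncomputable def t33 : ℕ :=
  nat_lit 0x82dcb001d2665c4d5ec91686aa9e74aa9065c82facb512f517224403313b185288704a0f8681364647cb36092547d3c82bbb218288115b581604a8d4ea529cacccec62f4d7bf70f58b55a3214d442a1db771cf847989192

noncomputable def t34 : ℕ :=
  nat_lit 0xc6ca992197965c8ad2cb196ceaa9c3215479e3472bae0e4d2a10edbc8c8209f7e54044765833804756daad8ac1e42b9add9946a280a20c91448d7c280c1b1c346d2892ee9f14278120f213675f0228c260ee538494dc5bd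

noncomputable def t35 : ℕ :=
  nat_lit 0xc6ca992197965c8ad2cb196ceaa9c3215479e3472bae0e4d2a10edbc8c8209f7e54044765833804756daad8ac1e42b9add9946a280a20c91448d7c280c1b1c346d2892ee9f14278120f213675f0228c260ee538494dc5bd

noncomputable def t36 : ℕ :=
  nat_lit 0xc6213b117784dc6e76c924b58b860ad48305d391c3320e4ad3cac13c990a09628548c4767d4b8b6d2936669b050433e4188c3dc8ac2cab809a397a0751ed1c366a5acab01f3f2761ed15488681bea2ee20f529849514624

noncomputable def t37 : ℕ :=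
  nat_lit 0xc6213b117784dc6e76c924b58b860ad48305d391c3320e4ad3cac13c990a09628548c4767d4b8b6d2936669b050433e4188c3dc8ac2cab809a397a0751ed1c366a5acab01f3f2761ed15488681bea2ee20f529849514624

noncomputable def t38 : ℕ :=
  nat_lit 0x26c8412b578597757c5299b582314d184d09f12ba31c824c38f48b4e900dc407ef9e8d776c3416e3cc8c678aa2442b92814462c1c0b4d6b098ad7ca3e44828346daaab914a94c780f1d6d2de34bb668e10ee53d58409600

noncomputable def t39 : ℕ :=
  nat_lit 0x26c8412b578597757c5299b582314d184d09f12ba31c824c38f48b4e900dc407ef9e8d776c3416e3cc8c678aa2442b92814462c1c0b4d6b098ad7ca3e44828346daaab914a94c780f1d6d2de34bb668e10ee53d58409600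

noncomputable def t40 : ℕ :=
  nat_lit 0x269e9861378855b745431915ae29c32ed009ef21ada50a4d77a3a28d9b29c027efa3ce76e89413e055aa6616c3042ba60f6ad2a59c4211a44a657836e7858a346d10c0858a94c6e48dd591a2183a72fa60f819174101b50

noncomputable def t41 : ℕ :=
  nat_lit 0x269e9861378855b745431915ae29c32ed009ef21ada50a4d77a3a28d9b29c027efa3ce76e89413e055aa6616c3042ba60f6ad2a59c4211a44a657836e7858a346d10c0858a94c6e48dd591a2183a72fa60f819174101b50

noncomputable def t42 : ℕ :=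
  nat_lit 0xb9517315ac2eda198c9d897228ce86802898b88b8d2541f3942cd1597e7ce8ba6f03c9096eb4764ed4bd4e6d2afbc04d031500a268c1b041993dc0f10b121c6f7cc982d34ab5895c890a4ad1ba543a54268a2ab63c0b080

noncomputable def t43 : ℕ :=
  nat_lit 0xb5380a534beee3757225824e42e27e3eaca4550b23ae25e56709e793a62122a8725a3e6c324213610a078cdf05e6186f9e1c2da8666a189d1b163d2840e09c64b4c989a5caa9b32c890402a65b80ae81f7a9a8bb5809700

noncomputable def t44 : ℕ :=
  nat_lit 0x9f6d2139a0cc45148a599622c78c72129096ee9ea34b41f2a5e9d957ac0445390f2fc9aaae030c615a9a8d7221e5904bc79cfd4a8669ac9f1a6ef36c2e215db458a9c0ed2c142580890775260e878a52e5a190514208e80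

noncomputable def t45 : ℕ :=
  nat_lit 0x6e28f927a84e32c46d295890dd8e814424ac6aef8db225e3f58cee31167573955266be1f3a99e9e81a964f16bb88e203af75214a88c9a5e1996818548c009844d2c5d5a68c94c04c890aa311d4ad6e8412e19b52bc0a100

noncomputable def t46 : ℕ :=
  nat_lit 0x231625f307571ec75a49502f1acf1748a4a9858fc2103d8d93602d2b4832e4b204d362aac8d0d58d82c352191b0badd52f8efa857b1812cd90b4546688493ac379dbd38a28a744e5fdb66e29d41d04207065cca0800a709

noncomputable def t47 : ℕ :=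
  nat_lit 0xb6f0da6c0697c121164275169d8c1b48aa9a80524f8142ca35683161693050322a8c56327090e5cdaa9f1eea4b0597513788b599628f52c3624cf049b72f178ee42df0d3ac517c771bf942dc42a68404b10c9a890e0abc6

noncomputable def t48 : ℕ :=
  nat_lit 0x492a3555b8eeaf689c2b35c72f8c912cadaa2818063b41f266f727c40516739862dc561d61fb5080ddd228eac872c8499baf24ba8c460436a6644ac4a7adcc82458a31f86132c040fcda8f55291b1d59a24f1101bd00500

noncomputable def t49 : ℕ :=
  nat_lit 0xbc9cb13aa0eec63b418ba56f300f46d27ca8b0481ca58955315861447e54d8273247066aca03d8e91c5bb050ccdb95efa01234628b520fe3301574e227a5d6582112652be8b35a1cd122eec5d47c050a56132cb76d0c200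

noncomputable def t50 : ℕ :=
  nat_lit 0x8070b351c0944610f2fd14251da71a44b865282f3a3f32caa8f846003b527349614c33913e9236efe99a2b16ae3b825e9b5cc6544ad24839164d5ac25752b282c303ea0bc7c270d8383b498ce2442abcd4961684876c09e

noncomputable def t51 : ℕ :=
  nat_lit 0x6032319b334f2f043e486129d8c26ae6c17750444a7ea533b8f719280650de36c616daab312136e4b040787151a2cac2a043227dda838e87702ebce96021e258d06bda3859d6447e9252b7e9c5462975b2341f0421780c4

noncomputable def t52 : ℕ :=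
  nat_lit 0x760d2ad5ed9330667a7549a09d424760b505784ec3ab8eb489615644166afc980f871c7a5555a12e13929f70b996e8ab9140f1939c460835ba10fdba37b0288d494d336063ae28303d98b2830a1a220b41f3189348fd080

noncomputable def t53 : ℕ :=
  nat_lit 0x949e71d82791b240e08525b265d83068fd06766b868e3a0482a6c7c499504bf04f9daac7554365f79208b6a42dcbe530459ee4c9c6b77083a6b80ab436a6bc2f098266345d1308d16250ef45928631b8a2236322c558b00

noncomputable def t54 : ℕ :=
  nat_lit 0x657cb5ac01618e103e8af28f1212991d0b06e0588d5b42b2ab60d9ce7cd4528908ccbf7a2414159088c53ca46638caec549b02e1c414ecde16e0f9ac32d3b9a48a5260f10bd5695dd2508ec33630557623b7679b2724800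

noncomputable def t55 : ℕ :=
  nat_lit 0x6020fdfc4903298f812ad2524a2c4c6ecca0b115d33c6413fa4bda16bad9c2a790ddd61c44e229e321138b8e6d0b0265b75d219403a608557c6a8a742cc3a80881e8b2b845570751a81b5726314705d5b2e36f0f8ce6700

noncomputable def t56 : ℕ :=
  nat_lit 0xa73e0da9d0181739822c22200a33c70d2bec57d7a40cf4f9940aac81a5630de0f42522089958a04b4c1ea8b8add9ac9b1273181930aea8cc34f064792d07db168e435b8218d550b2b893a3472136e08167f2d3bb52de256

noncomputable def t57 : ℕ :=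
  nat_lit 0xc72b0b8ab1aba333399b4bb5afad5d2d09a9f69dc7a588eac9978c2a867204102c94af9ae88e048d8058b2f8693794ea483711ea814204b7b88a8a03e7a4c25742dc52e101946049c8f203988c169d2a60e082962a19fb5

noncomputable def t58 : ℕ :=
  nat_lit 0x770916014ca81e4f7ecd52e86018974a2434b4655c1c4598b8e1ab4eba0aa586e91ebc60c63052a3cc803e0c8632d21a2c576c2015498613402229b9331c28475c9413451faf7cd66ba1b4db4f5d684e152e4e87bd88e2d

noncomputable def t59 : ℕ :=
  nat_lit 0x4d329bf0f4194da84425640d2702329e8c5c186e8b8729528c471090b66afb3a4fae44470a4da1e2433b5af528e002925e26c46059e35c95b1216293edc1ba5d1aaa2af060477849b2b5e6ce9728c1c350364c08c72cb1e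

noncomputable def t60 : ℕ :=
  nat_lit 0x6d229530404a18432708576fa78dae009c580d41c3589e595ab41330b8185a05612b4c623cd59bd88b10747702f192890e0f11ec6b0a1cd14a7ce476e8d99b127a0bc5b371d422d0417656852a8576da4be657299cfd138

noncomputable def t61 : ℕ :=
  nat_lit 0x150db5e544971c89743c63d411287b81dbe28b0fa7803a0e32a215d19e8d0007114dc74d5c2cb20c0e8f16f26592e6ad53ad62129b96c4cda926955680dbb19cb46329010c064a85a914809d0126bd9dfc388cca1a59cbf

noncomputable def t62 : ℕ :=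
  nat_lit 0xaa88fa5c4706dc160ef11138ebb16a3f09748762cfbe6c2ad0d123c152adcc014651b42aab0484336ca69741dbcba1d3d4674ec30a46843f9508137213a1ba5e3103eb4e0032a2d8f492c51ea8996d746ac109921c61601

noncomputable def t63 : ℕ :=
  nat_lit 0x4186c97a81542b8d3f037a60839bacd9c0918925b22ad1711bd4980e86b4e0b635e6062d280a166e6c629c28f1430fde834f16e8881109d18201149aaa8d1d32ed4c7b4989631ef2fc81a12e3a58fad90a0be6a34b08fb5

noncomputable def B : List ℕ :=
  [nat_lit 53, nat_lit 27, nat_lit 61, nat_lit 79, nat_lit 21]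

noncomputable def E0 : List ℕ :=
  [t0, t1, t2]

noncomputable def E : List ℕ :=
  [t3, t4, t5, t6, t7, t8, t9, t10, t11, t12, t13, t14, t15, t16, t17, t18, t19, t20, t21, t22, t23]

noncomputable def sl0 : List ℕ :=
  [t3, t4, t5, t6, t7, t8, t9, t10, t11, t12, t13, t14, t15, t16, t17, t18, t19, t20, t21, t22, t23]

noncomputable def ul0 : List ℕ :=
  [t24, t25, t26, t27, t28, t29, t30, t31, t32, t33, t34, t35, t36, t37, t38, t39, t40, t41, t42, t43, t44, t45, t46, t47, t48, t49, t50, t51, t52, t53, t54, t55, t56, t57, t58, t59, t60, t61, t62, t63]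

noncomputable def g2_0_9 : List (ℕ × ℕ × ℕ) :=
  [(nat_lit 2, t24, t25), (nat_lit 2, t26, t27), (nat_lit 2, t28, t29), (nat_lit 2, t30, t31), (nat_lit 2, t32, t33), (nat_lit 2, t34, t35), (nat_lit 2, t36, t37), (nat_lit 2, t38, t39), (nat_lit 2, t40, t41)]

noncomputable def g2E : List ℕ :=
  [t24, t26, t28, t30, t32, t34, t36, t38, t40]

noncomputable def g3_1_3 : List (ℕ × ℕ × ℕ) :=
  [(nat_lit 3, t42, t43), (nat_lit 3, t44, t45)]

noncomputable def g3E : List ℕ :=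
  [t42, t44]

noncomputable def g5_3_6 : List (ℕ × ℕ × ℕ) :=
  [(nat_lit 5, t46, t47), (nat_lit 5, t48, t49), (nat_lit 5, t50, t51)]

noncomputable def g5E : List ℕ :=
  [t46, t48, t50]

noncomputable def g11_0_2 : List (ℕ × ℕ × ℕ) :=
  [(nat_lit 5, t52, t53), (nat_lit 11, t54, t55)]

noncomputable def g11E : List ℕ :=
  [t52, t54]

noncomputable def wp0 : List (List ℕ × List ℕ) :=
  [([nat_lit 2], [nat_lit 0, nat_lit 1]), ([nat_lit 0], [nat_lit 1, nat_lit 2]), ([nat_lit 0, nat_lit 1], [nat_lit 0, nat_lit 2]), ([nat_lit 1, nat_lit 0], [nat_lit 1, nat_lit 2]), ([nat_lit 1], [nat_lit 2, nat_lit 0, nat_lit 2, nat_lit 0]), ([nat_lit 2], [nat_lit 1, nat_lit 2, nat_lit 1, nat_lit 0]), ([nat_lit 0], [nat_lit 2, nat_lit 0, nat_lit 2, nat_lit 1]), ([nat_lit 0, nat_lit 1], [nat_lit 1, nat_lit 2]), ([nat_lit 2], [nat_lit 1, nat_lit 2, nat_lit 0]), ([nat_lit 1], [nat_lit 0, nat_lit 1, nat_lit 0, nat_lit 2]),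 ([nat_lit 0], [nat_lit 2, nat_lit 1, nat_lit 0, nat_lit 1]), ([nat_lit 1, nat_lit 0], [nat_lit 1, nat_lit 2, nat_lit 1, nat_lit 2]), ([nat_lit 2], [nat_lit 1, nat_lit 2, nat_lit 0, nat_lit 2, nat_lit 0, nat_lit 1]), ([nat_lit 0, nat_lit 2], [nat_lit 0, nat_lit 1, nat_lit 0, nat_lit 1]), ([nat_lit 0], [nat_lit 1, nat_lit 2, nat_lit 0, nat_lit 1]), ([nat_lit 0, nat_lit 1], [nat_lit 2, nat_lit 1, nat_lit 2, nat_lit 0]), ([nat_lit 0], [nat_lit 2, nat_lit 0, nat_lit 2, nat_lit 1, nat_lit 2]), ([nat_lit 2], [nat_lit 0, nat_lit 1, nat_lit 0, nat_lit 1]), ([nat_lit 0], [nat_lit 2, nat_lit 1, nat_lit 2, nat_lit 1, nat_lit 0, nat_lit 1]), ([nat_lit 0, nat_lit 1], [nat_lit 0, nat_lit 2, nat_lit 0, nat_lit 2]), ([nat_lit 0, nat_lit 2], [nat_lit 0, nat_lit 1, nat_lit 2, nat_lit 1]), ([nat_lit 2], [nat_lit 0, nat_lit 2, nat_lit 0, nat_lit 1, nat_lit 0]), ([nat_lit 1], [nat_lit 2, nat_lit 1, nat_lit 0, nat_lit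 2, nat_lit 1, nat_lit 0]), ([nat_lit 2], [nat_lit 1, nat_lit 0, nat_lit 1, nat_lit 2, nat_lit 1]), ([nat_lit 0], [nat_lit 1, nat_lit 0, nat_lit 1, nat_lit 0, nat_lit 1, nat_lit 2]), ([nat_lit 2, nat_lit 1], [nat_lit 2, nat_lit 0, nat_lit 2, nat_lit 0]), ([nat_lit 2, nat_lit 0], [nat_lit 0, nat_lit 1, nat_lit 0, nat_lit 1, nat_lit 0, nat_lit 1]), ([nat_lit 2, nat_lit 0], [nat_lit 2, nat_lit 1, nat_lit 0, nat_lit 1]), ([nat_lit 0], [nat_lit 1, nat_lit 0, nat_lit 1, nat_lit 2, nat_lit 1]), ([nat_lit 1], [nat_lit 2, nat_lit 0, nat_lit 2, nat_lit 1, nat_lit 0, nat_lit 2]), ([nat_lit 2, nat_lit 0], [nat_lit 2, nat_lit 1, nat_lit 2, nat_lit 0, nat_lit 2, nat_lit 1]), ([nat_lit 1, nat_lit 0], [nat_lit 0, nat_lit 2, nat_lit 0, nat_lit 2, nat_lit 1, nat_lit 2]), ([nat_lit 1], [nat_lit 2, nat_lit 0, nat_lit 2, nat_lit 0, nat_lit 1, nat_lit 2]), ([nat_lit 1, nat_lit 2], [nat_lit 0, nat_lit 2, nat_lit 0, nat_lit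 1]), ([nat_lit 1, nat_lit 2], [nat_lit 0, nat_lit 1, nat_lit 0, nat_lit 2, nat_lit 1, nat_lit 0]), ([nat_lit 0, nat_lit 2], [nat_lit 1, nat_lit 2, nat_lit 1, nat_lit 2, nat_lit 0, nat_lit 1])]

noncomputable def g5_4_6 : List (ℕ × ℕ × ℕ) :=
  [(nat_lit 5, t48, t49), (nat_lit 5, t50, t51)]

noncomputable def g5_3_4 : List (ℕ × ℕ × ℕ) :=
  [(nat_lit 5, t46, t47)]

noncomputable def wp1 : List (List ℕ × List ℕ) :=
  [([nat_lit 0], [nat_lit 1, nat_lit 2, nat_lit 1, nat_lit 2]), ([nat_lit 0], [nat_lit 3, nat_lit 2]), ([nat_lit 0], [nat_lit 3, nat_lit 1]), ([nat_lit 0], [nat_lit 2, nat_lit 0, nat_lit 1]), ([nat_lit 0], [nat_lit 2, nat_lit 1, nat_lit 0, nat_lit 2]), ([nat_lit 2], [nat_lit 0, nat_lit 1]), ([nat_lit 1], [nat_lit 2, nat_lit 0, nat_lit 2, nat_lit 0]), ([nat_lit 2], [nat_lit 0, nat_lit 1]), ([nat_lit 0], [nat_lit 2, nat_lit 0, nat_lit 2, nat_lit 1]), ([nat_lit 1], [nat_lit 0, nat_lit 1, nat_lit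 0, nat_lit 2]), ([nat_lit 1], [nat_lit 0, nat_lit 3]), ([nat_lit 2], [nat_lit 0, nat_lit 1, nat_lit 0, nat_lit 1]), ([nat_lit 0], [nat_lit 3, nat_lit 0, nat_lit 2]), ([nat_lit 2], [nat_lit 0, nat_lit 3, nat_lit 0, nat_lit 3]), ([nat_lit 3], [nat_lit 2, nat_lit 1, nat_lit 0]), ([nat_lit 3], [nat_lit 0, nat_lit 2, nat_lit 1]), ([nat_lit 2], [nat_lit 1, nat_lit 2, nat_lit 0, nat_lit 2, nat_lit 0, nat_lit 1]), ([nat_lit 3], [nat_lit 1, nat_lit 0, nat_lit 1, nat_lit 0]), ([nat_lit 1], [nat_lit 2, nat_lit 1, nat_lit 0]), ([nat_lit 3], [nat_lit 0, nat_lit 2, nat_lit 0, nat_lit 1]), ([nat_lit 1, nat_lit 0], [nat_lit 3, nat_lit 2]), ([nat_lit 2], [nat_lit 3, nat_lit 1, nat_lit 0]), ([nat_lit 1], [nat_lit 2, nat_lit 3, nat_lit 0]), ([nat_lit 1], [nat_lit 2, nat_lit 0, nat_lit 2, nat_lit 1, nat_lit 0, nat_lit 2]), ([nat_lit 3], [nat_lit 1, nat_lit 3, nat_lit 0]), ([nat_lit 2], [nat_lit 0, nat_lit 2, nat_lit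 1, nat_lit 2, nat_lit 1, nat_lit 0]), ([nat_lit 0], [nat_lit 1, nat_lit 3, nat_lit 2]), ([nat_lit 1], [nat_lit 0, nat_lit 2]), ([nat_lit 1], [nat_lit 0, nat_lit 1, nat_lit 2, nat_lit 0]), ([nat_lit 1], [nat_lit 2, nat_lit 3, nat_lit 2, nat_lit 0]), ([nat_lit 2], [nat_lit 3, nat_lit 0]), ([nat_lit 2, nat_lit 0], [nat_lit 3, nat_lit 1]), ([nat_lit 2], [nat_lit 4, nat_lit 0]), ([nat_lit 0], [nat_lit 4, nat_lit 3]), ([nat_lit 3], [nat_lit 0, nat_lit 1]), ([nat_lit 1], [nat_lit 0, nat_lit 3, nat_lit 0, nat_lit 3]), ([nat_lit 3], [nat_lit 2, nat_lit 0, nat_lit 2, nat_lit 0]), ([nat_lit 2], [nat_lit 1, nat_lit 2, nat_lit 0, nat_lit 1, nat_lit 0]), ([nat_lit 0], [nat_lit 1, nat_lit 3, nat_lit 1, nat_lit 3]), ([nat_lit 1], [nat_lit 2, nat_lit 1, nat_lit 0, nat_lit 1, nat_lit 2, nat_lit 0]), ([nat_lit 0], [nat_lit 1, nat_lit 0, nat_lit 2, nat_lit 0, nat_lit 2, nat_lit 1]), ([nat_lit 0], [nat_lit 2, nat_lit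 0, nat_lit 1, nat_lit 2, nat_lit 1]), ([nat_lit 2], [nat_lit 1, nat_lit 2, nat_lit 1, nat_lit 0, nat_lit 1, nat_lit 0]), ([nat_lit 0, nat_lit 1], [nat_lit 0, nat_lit 2, nat_lit 0, nat_lit 2]), ([nat_lit 1], [nat_lit 3, nat_lit 0, nat_lit 2]), ([nat_lit 2], [nat_lit 1, nat_lit 2, nat_lit 1, nat_lit 2, nat_lit 0, nat_lit 1]), ([nat_lit 2], [nat_lit 0, nat_lit 3, nat_lit 0, nat_lit 1]), ([nat_lit 3, nat_lit 0], [nat_lit 3, nat_lit 1]), ([nat_lit 0], [nat_lit 2, nat_lit 1, nat_lit 2, nat_lit 1, nat_lit 0, nat_lit 1]), ([nat_lit 0, nat_lit 1], [nat_lit 3, nat_lit 0]), ([nat_lit 0], [nat_lit 2, nat_lit 1, nat_lit 3, nat_lit 2]), ([nat_lit 3], [nat_lit 1, nat_lit 2, nat_lit 0]), ([nat_lit 1], [nat_lit 3, nat_lit 0]), ([nat_lit 1], [nat_lit 0, nat_lit 2, nat_lit 1, nat_lit 2, nat_lit 1, nat_lit 0]), ([nat_lit 0, nat_lit 2], [nat_lit 0, nat_lit 3]), ([nat_lit 4], [nat_lit 2, nat_lit 4, nat_lit 0]), ([nat_lit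 1], [nat_lit 4, nat_lit 0]), ([nat_lit 0, nat_lit 2], [nat_lit 0, nat_lit 1, nat_lit 0, nat_lit 1]), ([nat_lit 2, nat_lit 0], [nat_lit 0, nat_lit 1, nat_lit 0, nat_lit 1]), ([nat_lit 0], [nat_lit 2, nat_lit 0, nat_lit 1]), ([nat_lit 1], [nat_lit 4, nat_lit 2, nat_lit 0]), ([nat_lit 0], [nat_lit 1, nat_lit 2]), ([nat_lit 4], [nat_lit 0, nat_lit 3, nat_lit 2]), ([nat_lit 0], [nat_lit 2, nat_lit 0, nat_lit 1, nat_lit 0, nat_lit 1, nat_lit 2]), ([nat_lit 1], [nat_lit 0, nat_lit 2, nat_lit 0, nat_lit 2, nat_lit 1, nat_lit 0]), ([nat_lit 0], [nat_lit 2, nat_lit 0, nat_lit 1, nat_lit 2, nat_lit 1, nat_lit 2]), ([nat_lit 0], [nat_lit 3, nat_lit 2]), ([nat_lit 1], [nat_lit 0, nat_lit 1, nat_lit 2]), ([nat_lit 2], [nat_lit 1, nat_lit 3, nat_lit 0]), ([nat_lit 0], [nat_lit 2, nat_lit 3, nat_lit 0, nat_lit 2]), ([nat_lit 0], [nat_lit 2, nat_lit 3, nat_lit 2, nat_lit 1]), ([nat_lit 3], [nat_lit 0, nat_lit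 2]), ([nat_lit 0], [nat_lit 2, nat_lit 4]), ([nat_lit 2], [nat_lit 1, nat_lit 0, nat_lit 2, nat_lit 1, nat_lit 0, nat_lit 1]), ([nat_lit 0, nat_lit 1], [nat_lit 3, nat_lit 2]), ([nat_lit 4], [nat_lit 1, nat_lit 2, nat_lit 0]), ([nat_lit 0], [nat_lit 4, nat_lit 2, nat_lit 1]), ([nat_lit 0], [nat_lit 2, nat_lit 1, nat_lit 3]), ([nat_lit 1, nat_lit 0], [nat_lit 1, nat_lit 2])]

noncomputable def wp2 : List (List ℕ × List ℕ) :=
  [([nat_lit 1], [nat_lit 1, nat_lit 0, nat_lit 1, nat_lit 0]), ([nat_lit 0], [nat_lit 0, nat_lit 1, nat_lit 0, nat_lit 0, nat_lit 1]), ([nat_lit 0], [nat_lit 0, nat_lit 1, nat_lit 0, nat_lit 1, nat_lit 1]), ([nat_lit 1], [nat_lit 1, nat_lit 0, nat_lit 1, nat_lit 0, nat_lit 0])]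

noncomputable def g11_0_1 : List (ℕ × ℕ × ℕ) :=
  [(nat_lit 5, t52, t53)]

noncomputable def g11_1_2 : List (ℕ × ℕ × ℕ) :=
  [(nat_lit 11, t54, t55)]

noncomputable def wp3 : List (List ℕ × List ℕ) :=
  [([nat_lit 0], [nat_lit 0, nat_lit 1]), ([nat_lit 0], [nat_lit 0, nat_lit 0, nat_lit 1]), ([nat_lit 0], [nat_lit 0, nat_lit 1, nat_lit 1]), ([nat_lit 0], [nat_lit 0, nat_lit 1, nat_lit 1, nat_lit 1]), ([nat_lit 1], [nat_lit 1, nat_lit 1, nat_lit 0]), ([nat_lit 1], [nat_lit 1, nat_lit 1, nat_lit 0, nat_lit 1, nat_lit 0]), ([nat_lit 1], [nat_lit 0, nat_lit 1, nat_lit 1, nat_lit 0]), ([nat_lit 0], [nat_lit 0, nat_lit 1, nat_lit 0, nat_lit 1]), ([nat_lit 1], [nat_lit 1, nat_lit 0, nat_lit 0, nat_lit 1, nat_lit 0, nat_lit 0, nat_lit 0]), ([nat_lit 1], [nat_lit 1, nat_lit 0, nat_lit 0, nat_lit 0]), ([nat_lit 1], [nat_lit 1, nat_lit 0, nat_lit 1, nat_lit 0]), ([nat_lit 0], [nat_lit 1, nat_lit 1, nat_lit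 0, nat_lit 0, nat_lit 1])]

noncomputable def g2_3_9 : List (ℕ × ℕ × ℕ) :=
  [(nat_lit 2, t30, t31), (nat_lit 2, t32, t33), (nat_lit 2, t34, t35), (nat_lit 2, t36, t37), (nat_lit 2, t38, t39), (nat_lit 2, t40, t41)]

noncomputable def g2_3_6 : List (ℕ × ℕ × ℕ) :=
  [(nat_lit 2, t30, t31), (nat_lit 2, t32, t33), (nat_lit 2, t34, t35)]

noncomputable def g2_6_9 : List (ℕ × ℕ × ℕ) :=
  [(nat_lit 2, t36, t37), (nat_lit 2, t38, t39), (nat_lit 2, t40, t41)]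

noncomputable def g2_0_3 : List (ℕ × ℕ × ℕ) :=
  [(nat_lit 2, t24, t25), (nat_lit 2, t26, t27), (nat_lit 2, t28, t29)]

noncomputable def wp4 : List (List ℕ × List ℕ) :=
  [([nat_lit 0], [nat_lit 0, nat_lit 0, nat_lit 1]), ([nat_lit 1], [nat_lit 1, nat_lit 0, nat_lit 0]), ([nat_lit 1], [nat_lit 1, nat_lit 0]), ([nat_lit 0], [nat_lit 0, nat_lit 1, nat_lit 1]), ([nat_lit 0], [nat_lit 0, nat_lit 0, nat_lit 1, nat_lit 1]), ([nat_lit 1], [nat_lit 0, nat_lit 1, nat_lit 0, nat_lit 0]), ([nat_lit 1, nat_lit 0], [nat_lit 1, nat_lit 0, nat_lit 0, nat_lit 1]), ([nat_lit 1], [nat_lit 1, nat_lit 1, nat_lit 0, nat_lit 1, nat_lit 0]), ([nat_lit 1, nat_lit 0, nat_lit 0], [nat_lit 1, nat_lit 0, nat_lit 1, nat_lit 1]), ([nat_lit 0], [nat_lit 1, nat_lit 1, nat_lit 0, nat_lit 0, nat_lit 1]), ([nat_lit 1, nat_lit 0, nat_lit 1], [nat_lit 1, nat_lit 0, nat_lit 0, nat_lit 0])]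

noncomputable def wp5 : List (List ℕ × List ℕ) :=
  [([nat_lit 0], [nat_lit 0, nat_lit 1]), ([nat_lit 0], [nat_lit 0, nat_lit 0, nat_lit 1]), ([nat_lit 0], [nat_lit 0, nat_lit 0, nat_lit 1, nat_lit 1]), ([nat_lit 1], [nat_lit 1, nat_lit 0]), ([nat_lit 0], [nat_lit 0, nat_lit 1, nat_lit 0, nat_lit 1]), ([nat_lit 0], [nat_lit 0, nat_lit 0, nat_lit 0, nat_lit 1]), ([nat_lit 1], [nat_lit 1, nat_lit 0, nat_lit 0, nat_lit 0]), ([nat_lit 1], [nat_lit 1, nat_lit 0, nat_lit 0]), ([nat_lit 1], [nat_lit 1, nat_lit 1, nat_lit 0]), ([nat_lit 0], [nat_lit 0, nat_lit 1, nat_lit 1, nat_lit 1]), ([nat_lit 0], [nat_lit 1, nat_lit 0, nat_lit 0, nat_lit 0, nat_lit 1]), ([nat_lit 1], [nat_lit 1, nat_lit 1, nat_lit 0, nat_lit 1, nat_lit 0])]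

noncomputable def wp6 : List (List ℕ × List ℕ) :=
  [([nat_lit 0], [nat_lit 0, nat_lit 1]), ([nat_lit 1], [nat_lit 1, nat_lit 0]), ([nat_lit 0], [nat_lit 0, nat_lit 0, nat_lit 1]), ([nat_lit 1], [nat_lit 0, nat_lit 1, nat_lit 0]), ([nat_lit 1], [nat_lit 1, nat_lit 1, nat_lit 0]), ([nat_lit 0], [nat_lit 0, nat_lit 0, nat_lit 1, nat_lit 1]), ([nat_lit 0], [nat_lit 1, nat_lit 0, nat_lit 1]), ([nat_lit 0], [nat_lit 0, nat_lit 1, nat_lit 1, nat_lit 1]), ([nat_lit 0], [nat_lit 1, nat_lit 0, nat_lit 0, nat_lit 0, nat_lit 1]), ([nat_lit 1], [nat_lit 1, nat_lit 1, nat_lit 0, nat_lit 1, nat_lit 0]), ([nat_lit 1], [nat_lit 1, nat_lit 1, nat_lit 1, nat_lit 0]), ([nat_lit 0], [nat_lit 0, nat_lit 0, nat_lit 0, nat_lit 1]), ([nat_lit 0], [nat_lit 0, nat_lit 1, nat_lit 1])]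

noncomputable def wp7 : List (List ℕ × List ℕ) :=
  [([nat_lit 1], [nat_lit 1, nat_lit 0]), ([nat_lit 0], [nat_lit 0, nat_lit 0, nat_lit 1]), ([nat_lit 0], [nat_lit 0, nat_lit 0, nat_lit 0, nat_lit 1]), ([nat_lit 1], [nat_lit 0, nat_lit 1, nat_lit 0]), ([nat_lit 1], [nat_lit 1, nat_lit 1, nat_lit 0]), ([nat_lit 0], [nat_lit 0, nat_lit 0, nat_lit 1, nat_lit 1]), ([nat_lit 1], [nat_lit 1, nat_lit 1, nat_lit 1, nat_lit 0]), ([nat_lit 0], [nat_lit 1, nat_lit 0, nat_lit 0, nat_lit 1, nat_lit 1]), ([nat_lit 0], [nat_lit 1, nat_lit 1, nat_lit 0, nat_lit 1]), ([nat_lit 0], [nat_lit 1, nat_lit 0, nat_lit 0, nat_lit 0, nat_lit 1]), ([nat_lit 0], [nat_lit 1, nat_lit 1, nat_lit 0, nat_lit 0, nat_lit 1]), ([nat_lit 0], [nat_lit 0, nat_lit 1, nat_lit 1]), ([nat_lit 0], [nat_lit 0, nat_lit 1, nat_lit 1, nat_lit 1]), ([nat_lit 1], [nat_lit 1, nat_lit 1, nat_lit 0, nat_lit 0, nat_lit 0]), ([nat_lit 0], [nat_lit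 0, nat_lit 0, nat_lit 1, nat_lit 1, nat_lit 1]), ([nat_lit 0], [nat_lit 1, nat_lit 1, nat_lit 1, nat_lit 0, nat_lit 1]), ([nat_lit 1], [nat_lit 0, nat_lit 1, nat_lit 1, nat_lit 0, nat_lit 0]), ([nat_lit 1], [nat_lit 1, nat_lit 0, nat_lit 1, nat_lit 0, nat_lit 0])]

noncomputable def r2 : List ℕ :=
  [t56, t57]

noncomputable def fz2 : List (ℕ × ℕ × ℕ × ℕ) :=
  [(nat_lit 6, nat_lit 0, nat_lit 1, nat_lit 0x1090f06120a1315), (nat_lit 14, nat_lit 1, nat_lit 1, nat_lit 0x10050c060f0b1111121515), (nat_lit 64, nat_lit 1, nat_lit 1, nat_lit 0x105011309060c0a0a1111121515), (nat_lit 81, nat_lit 0, nat_lit 1, nat_lit 0x1050807110a0a12121515), (nat_lit 24, nat_lit 1, nat_lit 1, nat_lit 0x904011306060c0a0a111115), (nat_lit 158, nat_lit 0, nat_lit 1, nat_lit 0x30c070d0b141315), (nat_lit 92, nat_lit 1, nat_lit 1, nat_lit 0x2040f070b0a0a151215), (nat_lit 408, nat_lit 1, nat_lit 1, nat_lit 0x5030914060b0a1211),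 (nat_lit 32, nat_lit 1, nat_lit 1, nat_lit 0x8020d06110c0a1312)]

noncomputable def cl2 : List ℕ :=
  [nat_lit 6, nat_lit 14, nat_lit 64, nat_lit 81, nat_lit 24, nat_lit 158, nat_lit 92, nat_lit 408, nat_lit 32]

noncomputable def g2_0_0 : List (ℕ × ℕ × ℕ) :=
  []

noncomputable def r3 : List ℕ :=
  [t58]

noncomputable def fz3 : List (ℕ × ℕ × ℕ × ℕ) :=
  [(nat_lit 1, nat_lit 0, nat_lit 1, nat_lit 0xf0308060c0d1113121515), (nat_lit 2, nat_lit 0, nat_lit 1, nat_lit 0x30601070607120c0b1412), (nat_lit 3, nat_lit 0, nat_lit 1, nat_lit 0xb030807100d111512), (nat_lit 4, nat_lit 0, nat_lit 1, nat_lit 0x30401090c061512), (nat_lit 5, nat_lit 0, nat_lit 1, nat_lit 0xd05010608070c101415), (nat_lit 6, nat_lit 0, nat_lit 1, nat_lit 0x5010f07140d1112111515), (nat_lit 7, nat_lit 0, nat_lit 1, nat_lit 0x30601080806110a0a13121515), (nat_lit 8, nat_lit 0, nat_lit 1, nat_lit 0x2041007060b131115)]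

noncomputable def cl3 : List ℕ :=
  [nat_lit 1, nat_lit 2, nat_lit 3, nat_lit 4, nat_lit 5, nat_lit 6, nat_lit 7, nat_lit 8]

noncomputable def g3_1_1 : List (ℕ × ℕ × ℕ) :=
  []

noncomputable def r5 : List ℕ :=
  [t59, t60, t61]

noncomputable def fz5 : List (ℕ × ℕ × ℕ × ℕ) :=
  [(nat_lit 1, nat_lit 0, nat_lit 1, nat_lit 0x60109090f0b0a1112), (nat_lit 2, nat_lit 0, nat_lit 1, nat_lit 0xb051309060c0d131211), (nat_lit 3, nat_lit 0, nat_lit 1, nat_lit 0x2011009070d0a1111121515), (nat_lit 4, nat_lit 0, nat_lit 1, nat_lit 0xd02010c07100d121111), (nat_lit 5, nat_lit 0, nat_lit 1, nat_lit 0x301080b06110a15141515), (nat_lit 6, nat_lit 0, nat_lit 1, nat_lit 0x8020f060d0c0a1413), (nat_lit 7, nat_lit 0, nat_lit 1, nat_lit 0x90c060f0b0a13141515), (nat_lit 8, nat_lit 1, nat_lit 1, nat_lit 0x3050a0912101311), (nat_lit 9, nat_lit 1, nat_lit 1, nat_lit 0x50f07140f0a14121515), (nat_lit 10, nat_lit 0, nat_lit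 1, nat_lit 0xc021009060c0c0a1113121515), (nat_lit 11, nat_lit 1, nat_lit 1, nat_lit 0x14030d0f060c0b1215), (nat_lit 12, nat_lit 0, nat_lit 1, nat_lit 0x5031007060c0c0a111211), (nat_lit 13, nat_lit 1, nat_lit 1, nat_lit 0x407010909140f0a131515), (nat_lit 14, nat_lit 0, nat_lit 1, nat_lit 0x7020c070a1514), (nat_lit 15, nat_lit 0, nat_lit 1, nat_lit 0x304011107110c0a13121115), (nat_lit 16, nat_lit 0, nat_lit 1, nat_lit 0x30601090f06140d1114), (nat_lit 17, nat_lit 1, nat_lit 1, nat_lit 0x90309091210121211), (nat_lit 18, nat_lit 0, nat_lit 1, nat_lit 0x50308060b0c1311111515), (nat_lit 19, nat_lit 1, nat_lit 1, nat_lit 0x2030113070f101313), (nat_lit 20, nat_lit 0, nat_lit 1, nat_lit 0x30401150b06100c141111), (nat_lit 21, nat_lit 1, nat_lit 1, nat_lit 0xc020906150a131111), (nat_lit 22, nat_lit 1, nat_lit 1, nat_lit 0xd0201090907150b0a11111215), (nat_lit 23, nat_lit 0, nat_lit 1, nat_lit 0x7030707150b0a13121115),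 (nat_lit 24, nat_lit 0, nat_lit 1, nat_lit 0x9060108060a0b111215), (nat_lit 35, nat_lit 2, nat_lit 1, nat_lit 0x5010b08140b11111515), (nat_lit 70, nat_lit 2, nat_lit 1, nat_lit 0xb050f07120a12121115), (nat_lit 80, nat_lit 2, nat_lit 1, nat_lit 0xb05090f060b0a111512), (nat_lit 115, nat_lit 2, nat_lit 1, nat_lit 0x5010c0807140f0a1215)]

noncomputable def cl5 : List ℕ :=
  [nat_lit 1, nat_lit 2, nat_lit 3, nat_lit 4, nat_lit 5, nat_lit 6, nat_lit 7, nat_lit 8, nat_lit 9, nat_lit 10, nat_lit 11, nat_lit 12, nat_lit 13, nat_lit 14, nat_lit 15, nat_lit 16, nat_lit 17, nat_lit 18, nat_lit 19, nat_lit 20, nat_lit 21, nat_lit 22, nat_lit 23, nat_lit 24, nat_lit 35, nat_lit 70, nat_lit 80, nat_lit 115]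

noncomputable def g5_3_3 : List (ℕ × ℕ × ℕ) :=
  []

noncomputable def r7 : List ℕ :=
  [t62]

noncomputable def r11 : List ℕ :=
  [t63]

end Cfsg.Agent.SB.SporF.HS
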