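import Cfsg.Agent.SB.SporF.HS.Chk0

/-! S5765, row of HS: assembly (generated by notes/SB/spor_tools, helper63) -/

set_option autoImplicit false

namespace Cfsg.Agent.SB.SporF.HS

open Cfsg.Agent.SB Cfsg.Agent.SB.Spor

open Cfsg

set_option maxRecDepth 100000
set_option linter.unusedSectionVars false

variable {G : Type*} [Group G]

theorem tab (M : PM G 100) : M.Tab lk mk ver := perm_tab M rfl (by norm_num) (by norm_num)

/-- the tables `E0` describe elements of `G`, and the order of `G` is bounded -/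
structure Hyp (M : PM G 100) : Prop where
  h0 : AllIn M lk E0
  hN : Nat.card G ≤ 44352000

variable [Finite G] {M : PM G 100} (H : Hyp M)
include H

theorem s0 : AllIn M lk sl0 :=
  slp_spec (tab M) d1 E0 H.h0 c1

theorem i3 : M.In lk t3 :=
  s0 H _ (.head _)

theorem i4 : M.In lk t4 :=
  s0 H _ (.tail _ (.head _))

theorem i5 : M.In lk t5 :=
  s0 H _ (.tail _ (.tail _ (.head _)))

theorem i6 : M.In lk t6 :=
  s0 H _ (.tail _ (.tail _ (.tail _ (.head _))))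

theorem i7 : M.In lk t7 :=
  s0 H _ (.tail _ (.tail _ (.tail _ (.tail _ (.head _)))))

theorem i8 : M.In lk t8 :=
  s0 H _ (.tail _ (.tail _ (.tail _ (.tail _ (.tail _ (.head _))))))

theorem i9 : M.In lk t9 :=
  s0 H _ (.tail _ (.tail _ (.tail _ (.tail _ (.tail _ (.tail _ (.head _)))))))

theorem i10 : M.In lk t10 :=
  s0 H _ (.tail _ (.tail _ (.tail _ (.tail _ (.tail _ (.tail _ (.tail _ (.head _))))))))

theorem i11 : M.In lk t11 :=
  s0 H _ (.tail _ (.tail _ (.tail _ (.tail _ (.tail _ (.tail _ (.tail _ (.tail _ (.head _)))))))))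

theorem i12 : M.In lk t12 :=
  s0 H _ (.tail _ (.tail _ (.tail _ (.tail _ (.tail _ (.tail _ (.tail _ (.tail _ (.tail _ (.head _))))))))))

theorem i13 : M.In lk t13 :=
  s0 H _ (.tail _ (.tail _ (.tail _ (.tail _ (.tail _ (.tail _ (.tail _ (.tail _ (.tail _ (.tail _ (.head _)))))))))))

theorem i14 : M.In lk t14 :=
  s0 H _ (.tail _ (.tail _ (.tail _ (.tail _ (.tail _ (.tail _ (.tail _ (.tail _ (.tail _ (.tail _ (.tail _ (.head _))))))))))))

theorem i15 : M.In lk t15 :=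
  s0 H _ (.tail _ (.tail _ (.tail _ (.tail _ (.tail _ (.tail _ (.tail _ (.tail _ (.tail _ (.tail _ (.tail _ (.tail _ (.head _)))))))))))))

theorem i16 : M.In lk t16 :=
  s0 H _ (.tail _ (.tail _ (.tail _ (.tail _ (.tail _ (.tail _ (.tail _ (.tail _ (.tail _ (.tail _ (.tail _ (.tail _ (.tail _ (.head _))))))))))))))

theorem i17 : M.In lk t17 :=
  s0 H _ (.tail _ (.tail _ (.tail _ (.tail _ (.tail _ (.tail _ (.tail _ (.tail _ (.tail _ (.tail _ (.tail _ (.tail _ (.tail _ (.tail _ (.head _)))))))))))))))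

theorem i18 : M.In lk t18 :=
  s0 H _ (.tail _ (.tail _ (.tail _ (.tail _ (.tail _ (.tail _ (.tail _ (.tail _ (.tail _ (.tail _ (.tail _ (.tail _ (.tail _ (.tail _ (.tail _ (.head _))))))))))))))))

theorem i19 : M.In lk t19 :=
  s0 H _ (.tail _ (.tail _ (.tail _ (.tail _ (.tail _ (.tail _ (.tail _ (.tail _ (.tail _ (.tail _ (.tail _ (.tail _ (.tail _ (.tail _ (.tail _ (.tail _ (.head _)))))))))))))))))

theorem i20 : M.In lk t20 :=
  s0 H _ (.tail _ (.tail _ (.tail _ (.tail _ (.tail _ (.tail _ (.tail _ (.tail _ (.tail _ (.tail _ (.tail _ (.tail _ (.tail _ (.tail _ (.tail _ (.tail _ (.tail _ (.head _))))))))))))))))))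

theorem i21 : M.In lk t21 :=
  s0 H _ (.tail _ (.tail _ (.tail _ (.tail _ (.tail _ (.tail _ (.tail _ (.tail _ (.tail _ (.tail _ (.tail _ (.tail _ (.tail _ (.tail _ (.tail _ (.tail _ (.tail _ (.tail _ (.head _)))))))))))))))))))

theorem i22 : M.In lk t22 :=
  s0 H _ (.tail _ (.tail _ (.tail _ (.tail _ (.tail _ (.tail _ (.tail _ (.tail _ (.tail _ (.tail _ (.tail _ (.tail _ (.tail _ (.tail _ (.tail _ (.tail _ (.tail _ (.tail _ (.tail _ (.head _))))))))))))))))))))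

theorem i23 : M.In lk t23 :=
  s0 H _ (.tail _ (.tail _ (.tail _ (.tail _ (.tail _ (.tail _ (.tail _ (.tail _ (.tail _ (.tail _ (.tail _ (.tail _ (.tail _ (.tail _ (.tail _ (.tail _ (.tail _ (.tail _ (.tail _ (.tail _ (.head _)))))))))))))))))))))

theorem hE : AllIn M lk E :=
  (AllIn.cons (i3 H) (AllIn.cons (i4 H) (AllIn.cons (i5 H) (AllIn.cons (i6 H) (AllIn.cons (i7 H) (AllIn.cons (i8 H) (AllIn.cons (i9 H) (AllIn.cons (i10 H) (AllIn.cons (i11 H) (AllIn.cons (i12 H) (AllIn.cons (i13 H) (AllIn.cons (i14 H) (AllIn.cons (i15 H) (AllIn.cons (i16 H) (AllIn.cons (i17 H) (AllIn.cons (i18 H) (AllIn.cons (i19 H) (AllIn.cons (i20 H) (AllIn.cons (i21 H) (AllIn.cons (i22 H) (AllIn.cons (i23 H) AllIn.nil)))))))))))))))))))))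

theorem hB0 : M.Base B ∧ Nat.card G = 44352000 :=
  base_of_chk (hE H) H.hN (B := B) rfl c2

theorem hB : M.Base B :=
  (hB0 H).1

theorem u0 : AllIn M lk ul0 :=
  slp_spec (tab M) d3 E (hE H) c3

theorem i24 : M.In lk t24 :=
  u0 H _ (.head _)

theorem i25 : M.In lk t25 :=
  u0 H _ (.tail _ (.head _))

theorem i26 : M.In lk t26 :=
  u0 H _ (.tail _ (.tail _ (.head _)))

theorem i27 : M.In lk t27 :=
  u0 H _ (.tail _ (.tail _ (.tail _ (.head _))))

theorem i28 : M.In lk t28 :=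
  u0 H _ (.tail _ (.tail _ (.tail _ (.tail _ (.head _)))))

theorem i29 : M.In lk t29 :=
  u0 H _ (.tail _ (.tail _ (.tail _ (.tail _ (.tail _ (.head _))))))

theorem i30 : M.In lk t30 :=
  u0 H _ (.tail _ (.tail _ (.tail _ (.tail _ (.tail _ (.tail _ (.head _)))))))

theorem i31 : M.In lk t31 :=
  u0 H _ (.tail _ (.tail _ (.tail _ (.tail _ (.tail _ (.tail _ (.tail _ (.head _))))))))

theorem i32 : M.In lk t32 :=
  u0 H _ (.tail _ (.tail _ (.tail _ (.tail _ (.tail _ (.tail _ (.tail _ (.tail _ (.head _)))))))))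

theorem i33 : M.In lk t33 :=
  u0 H _ (.tail _ (.tail _ (.tail _ (.tail _ (.tail _ (.tail _ (.tail _ (.tail _ (.tail _ (.head _))))))))))

theorem i34 : M.In lk t34 :=
  u0 H _ (.tail _ (.tail _ (.tail _ (.tail _ (.tail _ (.tail _ (.tail _ (.tail _ (.tail _ (.tail _ (.head _)))))))))))

theorem i35 : M.In lk t35 :=
  u0 H _ (.tail _ (.tail _ (.tail _ (.tail _ (.tail _ (.tail _ (.tail _ (.tail _ (.tail _ (.tail _ (.tail _ (.head _))))))))))))

theorem i36 : M.In lk t36 :=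
  u0 H _ (.tail _ (.tail _ (.tail _ (.tail _ (.tail _ (.tail _ (.tail _ (.tail _ (.tail _ (.tail _ (.tail _ (.tail _ (.head _)))))))))))))

theorem i37 : M.In lk t37 :=
  u0 H _ (.tail _ (.tail _ (.tail _ (.tail _ (.tail _ (.tail _ (.tail _ (.tail _ (.tail _ (.tail _ (.tail _ (.tail _ (.tail _ (.head _))))))))))))))

theorem i38 : M.In lk t38 :=
  u0 H _ (.tail _ (.tail _ (.tail _ (.tail _ (.tail _ (.tail _ (.tail _ (.tail _ (.tail _ (.tail _ (.tail _ (.tail _ (.tail _ (.tail _ (.head _)))))))))))))))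

theorem i39 : M.In lk t39 :=
  u0 H _ (.tail _ (.tail _ (.tail _ (.tail _ (.tail _ (.tail _ (.tail _ (.tail _ (.tail _ (.tail _ (.tail _ (.tail _ (.tail _ (.tail _ (.tail _ (.head _))))))))))))))))

theorem i40 : M.In lk t40 :=
  u0 H _ (.tail _ (.tail _ (.tail _ (.tail _ (.tail _ (.tail _ (.tail _ (.tail _ (.tail _ (.tail _ (.tail _ (.tail _ (.tail _ (.tail _ (.tail _ (.tail _ (.head _)))))))))))))))))

theorem i41 : M.In lk t41 :=
  u0 H _ (.tail _ (.tail _ (.tail _ (.tail _ (.tail _ (.tail _ (.tail _ (.tail _ (.tail _ (.tail _ (.tail _ (.tail _ (.tail _ (.tail _ (.tail _ (.tail _ (.tail _ (.head _))))))))))))))))))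

theorem i42 : M.In lk t42 :=
  u0 H _ (.tail _ (.tail _ (.tail _ (.tail _ (.tail _ (.tail _ (.tail _ (.tail _ (.tail _ (.tail _ (.tail _ (.tail _ (.tail _ (.tail _ (.tail _ (.tail _ (.tail _ (.tail _ (.head _)))))))))))))))))))

theorem i43 : M.In lk t43 :=
  u0 H _ (.tail _ (.tail _ (.tail _ (.tail _ (.tail _ (.tail _ (.tail _ (.tail _ (.tail _ (.tail _ (.tail _ (.tail _ (.tail _ (.tail _ (.tail _ (.tail _ (.tail _ (.tail _ (.tail _ (.head _))))))))))))))))))))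

theorem i44 : M.In lk t44 :=
  u0 H _ (.tail _ (.tail _ (.tail _ (.tail _ (.tail _ (.tail _ (.tail _ (.tail _ (.tail _ (.tail _ (.tail _ (.tail _ (.tail _ (.tail _ (.tail _ (.tail _ (.tail _ (.tail _ (.tail _ (.tail _ (.head _)))))))))))))))))))))

theorem i45 : M.In lk t45 :=
  u0 H _ (.tail _ (.tail _ (.tail _ (.tail _ (.tail _ (.tail _ (.tail _ (.tail _ (.tail _ (.tail _ (.tail _ (.tail _ (.tail _ (.tail _ (.tail _ (.tail _ (.tail _ (.tail _ (.tail _ (.tail _ (.tail _ (.head _))))))))))))))))))))))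

theorem i46 : M.In lk t46 :=
  u0 H _ (.tail _ (.tail _ (.tail _ (.tail _ (.tail _ (.tail _ (.tail _ (.tail _ (.tail _ (.tail _ (.tail _ (.tail _ (.tail _ (.tail _ (.tail _ (.tail _ (.tail _ (.tail _ (.tail _ (.tail _ (.tail _ (.tail _ (.head _)))))))))))))))))))))))

theorem i47 : M.In lk t47 :=
  u0 H _ (.tail _ (.tail _ (.tail _ (.tail _ (.tail _ (.tail _ (.tail _ (.tail _ (.tail _ (.tail _ (.tail _ (.tail _ (.tail _ (.tail _ (.tail _ (.tail _ (.tail _ (.tail _ (.tail _ (.tail _ (.tail _ (.tail _ (.tail _ (.head _))))))))))))))))))))))))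

theorem i48 : M.In lk t48 :=
  u0 H _ (.tail _ (.tail _ (.tail _ (.tail _ (.tail _ (.tail _ (.tail _ (.tail _ (.tail _ (.tail _ (.tail _ (.tail _ (.tail _ (.tail _ (.tail _ (.tail _ (.tail _ (.tail _ (.tail _ (.tail _ (.tail _ (.tail _ (.tail _ (.tail _ (.head _)))))))))))))))))))))))))

theorem i49 : M.In lk t49 :=
  u0 H _ (.tail _ (.tail _ (.tail _ (.tail _ (.tail _ (.tail _ (.tail _ (.tail _ (.tail _ (.tail _ (.tail _ (.tail _ (.tail _ (.tail _ (.tail _ (.tail _ (.tail _ (.tail _ (.tail _ (.tail _ (.tail _ (.tail _ (.tail _ (.tail _ (.tail _ (.head _))))))))))))))))))))))))))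

theorem i50 : M.In lk t50 :=
  u0 H _ (.tail _ (.tail _ (.tail _ (.tail _ (.tail _ (.tail _ (.tail _ (.tail _ (.tail _ (.tail _ (.tail _ (.tail _ (.tail _ (.tail _ (.tail _ (.tail _ (.tail _ (.tail _ (.tail _ (.tail _ (.tail _ (.tail _ (.tail _ (.tail _ (.tail _ (.tail _ (.head _)))))))))))))))))))))))))))

theorem i51 : M.In lk t51 :=
  u0 H _ (.tail _ (.tail _ (.tail _ (.tail _ (.tail _ (.tail _ (.tail _ (.tail _ (.tail _ (.tail _ (.tail _ (.tail _ (.tail _ (.tail _ (.tail _ (.tail _ (.tail _ (.tail _ (.tail _ (.tail _ (.tail _ (.tail _ (.tail _ (.tail _ (.tail _ (.tail _ (.tail _ (.head _))))))))))))))))))))))))))))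

theorem i52 : M.In lk t52 :=
  u0 H _ (.tail _ (.tail _ (.tail _ (.tail _ (.tail _ (.tail _ (.tail _ (.tail _ (.tail _ (.tail _ (.tail _ (.tail _ (.tail _ (.tail _ (.tail _ (.tail _ (.tail _ (.tail _ (.tail _ (.tail _ (.tail _ (.tail _ (.tail _ (.tail _ (.tail _ (.tail _ (.tail _ (.tail _ (.head _)))))))))))))))))))))))))))))

theorem i53 : M.In lk t53 :=
  u0 H _ (.tail _ (.tail _ (.tail _ (.tail _ (.tail _ (.tail _ (.tail _ (.tail _ (.tail _ (.tail _ (.tail _ (.tail _ (.tail _ (.tail _ (.tail _ (.tail _ (.tail _ (.tail _ (.tail _ (.tail _ (.tail _ (.tail _ (.tail _ (.tail _ (.tail _ (.tail _ (.tail _ (.tail _ (.tail _ (.head _))))))))))))))))))))))))))))))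

theorem i54 : M.In lk t54 :=
  u0 H _ (.tail _ (.tail _ (.tail _ (.tail _ (.tail _ (.tail _ (.tail _ (.tail _ (.tail _ (.tail _ (.tail _ (.tail _ (.tail _ (.tail _ (.tail _ (.tail _ (.tail _ (.tail _ (.tail _ (.tail _ (.tail _ (.tail _ (.tail _ (.tail _ (.tail _ (.tail _ (.tail _ (.tail _ (.tail _ (.tail _ (.head _)))))))))))))))))))))))))))))))

theorem i55 : M.In lk t55 :=
  u0 H _ (.tail _ (.tail _ (.tail _ (.tail _ (.tail _ (.tail _ (.tail _ (.tail _ (.tail _ (.tail _ (.tail _ (.tail _ (.tail _ (.tail _ (.tail _ (.tail _ (.tail _ (.tail _ (.tail _ (.tail _ (.tail _ (.tail _ (.tail _ (.tail _ (.tail _ (.tail _ (.tail _ (.tail _ (.tail _ (.tail _ (.tail _ (.head _))))))))))))))))))))))))))))))))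

theorem i56 : M.In lk t56 :=
  u0 H _ (.tail _ (.tail _ (.tail _ (.tail _ (.tail _ (.tail _ (.tail _ (.tail _ (.tail _ (.tail _ (.tail _ (.tail _ (.tail _ (.tail _ (.tail _ (.tail _ (.tail _ (.tail _ (.tail _ (.tail _ (.tail _ (.tail _ (.tail _ (.tail _ (.tail _ (.tail _ (.tail _ (.tail _ (.tail _ (.tail _ (.tail _ (.tail _ (.head _)))))))))))))))))))))))))))))))))

theorem i57 : M.In lk t57 :=
  u0 H _ (.tail _ (.tail _ (.tail _ (.tail _ (.tail _ (.tail _ (.tail _ (.tail _ (.tail _ (.tail _ (.tail _ (.tail _ (.tail _ (.tail _ (.tail _ (.tail _ (.tail _ (.tail _ (.tail _ (.tail _ (.tail _ (.tail _ (.tail _ (.tail _ (.tail _ (.tail _ (.tail _ (.tail _ (.tail _ (.tail _ (.tail _ (.tail _ (.tail _ (.head _))))))))))))))))))))))))))))))))))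

theorem i58 : M.In lk t58 :=
  u0 H _ (.tail _ (.tail _ (.tail _ (.tail _ (.tail _ (.tail _ (.tail _ (.tail _ (.tail _ (.tail _ (.tail _ (.tail _ (.tail _ (.tail _ (.tail _ (.tail _ (.tail _ (.tail _ (.tail _ (.tail _ (.tail _ (.tail _ (.tail _ (.tail _ (.tail _ (.tail _ (.tail _ (.tail _ (.tail _ (.tail _ (.tail _ (.tail _ (.tail _ (.tail _ (.head _)))))))))))))))))))))))))))))))))))

theorem i59 : M.In lk t59 :=
  u0 H _ (.tail _ (.tail _ (.tail _ (.tail _ (.tail _ (.tail _ (.tail _ (.tail _ (.tail _ (.tail _ (.tail _ (.tail _ (.tail _ (.tail _ (.tail _ (.tail _ (.tail _ (.tail _ (.tail _ (.tail _ (.tail _ (.tail _ (.tail _ (.tail _ (.tail _ (.tail _ (.tail _ (.tail _ (.tail _ (.tail _ (.tail _ (.tail _ (.tail _ (.tail _ (.tail _ (.head _))))))))))))))))))))))))))))))))))))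

theorem i60 : M.In lk t60 :=
  u0 H _ (.tail _ (.tail _ (.tail _ (.tail _ (.tail _ (.tail _ (.tail _ (.tail _ (.tail _ (.tail _ (.tail _ (.tail _ (.tail _ (.tail _ (.tail _ (.tail _ (.tail _ (.tail _ (.tail _ (.tail _ (.tail _ (.tail _ (.tail _ (.tail _ (.tail _ (.tail _ (.tail _ (.tail _ (.tail _ (.tail _ (.tail _ (.tail _ (.tail _ (.tail _ (.tail _ (.tail _ (.head _)))))))))))))))))))))))))))))))))))))

theorem i61 : M.In lk t61 :=
  u0 H _ (.tail _ (.tail _ (.tail _ (.tail _ (.tail _ (.tail _ (.tail _ (.tail _ (.tail _ (.tail _ (.tail _ (.tail _ (.tail _ (.tail _ (.tail _ (.tail _ (.tail _ (.tail _ (.tail _ (.tail _ (.tail _ (.tail _ (.tail _ (.tail _ (.tail _ (.tail _ (.tail _ (.tail _ (.tail _ (.tail _ (.tail _ (.tail _ (.tail _ (.tail _ (.tail _ (.tail _ (.tail _ (.head _))))))))))))))))))))))))))))))))))))))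

theorem i62 : M.In lk t62 :=
  u0 H _ (.tail _ (.tail _ (.tail _ (.tail _ (.tail _ (.tail _ (.tail _ (.tail _ (.tail _ (.tail _ (.tail _ (.tail _ (.tail _ (.tail _ (.tail _ (.tail _ (.tail _ (.tail _ (.tail _ (.tail _ (.tail _ (.tail _ (.tail _ (.tail _ (.tail _ (.tail _ (.tail _ (.tail _ (.tail _ (.tail _ (.tail _ (.tail _ (.tail _ (.tail _ (.tail _ (.tail _ (.tail _ (.tail _ (.head _)))))))))))))))))))))))))))))))))))))))

theorem i63 : M.In lk t63 :=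
  u0 H _ (.tail _ (.tail _ (.tail _ (.tail _ (.tail _ (.tail _ (.tail _ (.tail _ (.tail _ (.tail _ (.tail _ (.tail _ (.tail _ (.tail _ (.tail _ (.tail _ (.tail _ (.tail _ (.tail _ (.tail _ (.tail _ (.tail _ (.tail _ (.tail _ (.tail _ (.tail _ (.tail _ (.tail _ (.tail _ (.tail _ (.tail _ (.tail _ (.tail _ (.tail _ (.tail _ (.tail _ (.tail _ (.tail _ (.tail _ (.head _))))))))))))))))))))))))))))))))))))))))

theorem g2p0 : PcG M lk g2_0_9 512 :=
  pcg_of (hB H) (fa_cons (⟨i24 H, i25 H⟩) (fa_cons (⟨i26 H, i27 H⟩) (fa_cons (⟨i28 H, i29 H⟩) (fa_cons (⟨i30 H, i31 H⟩) (fa_cons (⟨i32 H, i33 H⟩) (fa_cons (⟨i34 H, i35 H⟩) (fa_cons (⟨i36 H, i37 H⟩) (fa_cons (⟨i38 H, i39 H⟩) (fa_cons (⟨i40 H, i41 H⟩) fa_nil))))))))) c4 c5 (E := g2E) rfl c6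

theorem g3p1 : PcG M lk g3_1_3 9 :=
  pcg_of (hB H) (fa_cons (⟨i42 H, i43 H⟩) (fa_cons (⟨i44 H, i45 H⟩) fa_nil)) c7 c8 (E := g3E) rfl c9

theorem g5p3 : PcG M lk g5_3_6 125 :=
  pcg_of (hB H) (fa_cons (⟨i46 H, i47 H⟩) (fa_cons (⟨i48 H, i49 H⟩) (fa_cons (⟨i50 H, i51 H⟩) fa_nil))) c10 c11 (E := g5E) rfl c12

theorem g11p0 : PcG M lk g11_0_2 55 :=
  pcg_of (hB H) (fa_cons (⟨i52 H, i53 H⟩) (fa_cons (⟨i54 H, i55 H⟩) fa_nil)) c13 c14 (E := g11E) rfl c15

theorem g5p4 : PcG M lk g5_4_6 25 :=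
  (g5p3 H).right (A := g5_3_4) rfl (by decide +kernel)

theorem dn0 : Dn (M.el lk t56) 2 25 :=
  (g5p4 H).dnS (tab M) (nsC_ok (hB H) _) (i56 H) (Upto.zero) c18

theorem ok0 : Rc.Ok ⟨2, 2, 25, 2880⟩ (M.el lk t56) :=
  rc_ok (hB H) (i56 H) (by norm_num) c16 (dn0 H) (by norm_num) (norm_ge (hB H) (hE H) (i56 H) c17)

theorem dn1 : Dn (M.el lk t57) 4 55 :=
  (g11p0 H).dnS (tab M) (nsC_ok (hB H) _) (i57 H) (Upto.zero) c21

theorem ok1 : Rc.Ok ⟨2, 4, 55, 7680⟩ (M.el lk t57) :=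
  rc_ok (hB H) (i57 H) (by norm_num) c19 (dn1 H) (by norm_num) (norm_ge (hB H) (hE H) (i57 H) c20)

theorem dn2 : Dn (M.el lk t58) 1 55 :=
  (g11p0 H).dnP (A := g11_0_1) (R := g11_1_2) rfl (tab M) (nsC_ok (hB H) _) (i58 H) (Upto.zero) c24

theorem ok2 : Rc.Ok ⟨3, 1, 55, 720⟩ (M.el lk t58) :=
  rc_ok (hB H) (i58 H) (by norm_num) c22 (dn2 H) (by norm_num) (norm_ge (hB H) (hE H) (i58 H) c23)

theorem g2p3 : PcG M lk g2_3_9 64 :=
  (g2p0 H).right (A := g2_0_3) rfl (by decide +kernel)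

theorem dn3 : Dn (M.el lk t59) 1 64 :=
  (g2p3 H).dnP (A := g2_3_6) (R := g2_6_9) rfl (tab M) (nsC_ok (hB H) _) (i59 H) (Upto.zero) c27

theorem ok3 : Rc.Ok ⟨5, 1, 64, 100⟩ (M.el lk t59) :=
  rc_ok (hB H) (i59 H) (by norm_num) c25 (dn3 H) (by norm_num) (norm_ge (hB H) (hE H) (i59 H) c26)

theorem dn4 : Dn (M.el lk t60) 1 55 :=
  (g11p0 H).dnP (A := g11_0_1) (R := g11_1_2) rfl (tab M) (nsC_ok (hB H) _) (i60 H) (Upto.zero) c30

theorem ok4 : Rc.Ok ⟨5, 1, 55, 1200⟩ (M.el lk t60) :=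
  rc_ok (hB H) (i60 H) (by norm_num) c28 (dn4 H) (by norm_num) (norm_ge (hB H) (hE H) (i60 H) c29)

theorem dn5 : Dn (M.el lk t61) 1 55 :=
  (g11p0 H).dnP (A := g11_0_1) (R := g11_1_2) rfl (tab M) (nsC_ok (hB H) _) (i61 H) (Upto.zero) c33

theorem ok5 : Rc.Ok ⟨5, 1, 55, 2000⟩ (M.el lk t61) :=
  rc_ok (hB H) (i61 H) (by norm_num) c31 (dn5 H) (by norm_num) (norm_ge (hB H) (hE H) (i61 H) c32)

theorem dn6 : Dn (M.el lk t62) 1 125 :=
  (g5p3 H).dnP (A := g5_3_4) (R := g5_4_6) rfl (tab M) (nsC_ok (hB H) _) (i62 H) (Upto.zero) c36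

theorem ok6 : Rc.Ok ⟨7, 1, 125, 42⟩ (M.el lk t62) :=
  rc_ok (hB H) (i62 H) (by norm_num) c34 (dn6 H) (by norm_num) (norm_ge (hB H) (hE H) (i62 H) c35)

theorem dn7 : Dn (M.el lk t63) 1 125 :=
  (g5p3 H).dnP (A := g5_3_4) (R := g5_4_6) rfl (tab M) (nsC_ok (hB H) _) (i63 H) (Upto.zero) c39

theorem ok7 : Rc.Ok ⟨11, 1, 125, 55⟩ (M.el lk t63) :=
  rc_ok (hB H) (i63 H) (by norm_num) c37 (dn7 H) (by norm_num) (norm_ge (hB H) (hE H) (i63 H) c38)

theorem cov2 : Cov M lk 2 r2 :=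
  (g2p0 H).cov (hB H) (A := g2_0_0) (R := g2_0_9) (d := 86625) (a := 1) rfl (by norm_num) (hB0 H).2 (by decide +kernel) (hE H)
    (AllIn.cons (i56 H) (AllIn.cons (i57 H) AllIn.nil)) c40 (cls := cl2) rfl
    (show ∀ c ∈ [0], _ from (fa_cons (⟨_, c41⟩) fa_nil))

theorem cov3 : Cov M lk 3 r3 :=
  (g3p1 H).cov (hB H) (A := g3_1_1) (R := g3_1_3) (d := 4928000) (a := 1) rfl (by norm_num) (hB0 H).2 (by decide +kernel) (hE H)
    (AllIn.cons (i58 H) AllIn.nil) c42 (cls := cl3) rfl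
    (show ∀ c ∈ [0], _ from (fa_cons (⟨_, c43⟩) fa_nil))

theorem cov5 : Cov M lk 5 r5 :=
  (g5p3 H).cov (hB H) (A := g5_3_3) (R := g5_3_6) (d := 354816) (a := 1) rfl (by norm_num) (hB0 H).2 (by decide +kernel) (hE H)
    (AllIn.cons (i59 H) (AllIn.cons (i60 H) (AllIn.cons (i61 H) AllIn.nil))) c44 (cls := cl5) rfl
    (show ∀ c ∈ [0], _ from (fa_cons (⟨_, c45⟩) fa_nil))

theorem cov7 : Cov M lk 7 r7 :=
  cov_of_prime (d := 6336000) (by norm_num) (ok6 H).ord ((hB0 H).2.trans (by norm_num)) (by norm_num)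

theorem cov11 : Cov M lk 11 r11 :=
  cov_of_prime (d := 4032000) (by norm_num) (ok7 H).ord ((hB0 H).2.trans (by norm_num)) (by norm_num)

theorem sheet : Sheet G 44352000 [⟨2, 2, 25, 2880⟩, ⟨2, 4, 55, 7680⟩, ⟨3, 1, 55, 720⟩, ⟨5, 1, 64, 100⟩, ⟨5, 1, 55, 1200⟩, ⟨5, 1, 55, 2000⟩, ⟨7, 1, 125, 42⟩, ⟨11, 1, 125, 55⟩] :=
  sheet_of (hB0 H).2 (F := [(2, 9), (3, 2), (5, 3), (7, 1), (11, 1)]) (by norm_num) (reps := [t56, t57, t58, t59, t60, t61, t62, t63])
    (.cons (ok0 H) (.cons (ok1 H) (.cons (ok2 H) (.cons (ok3 H) (.cons (ok4 H) (.cons (ok5 H) (.cons (ok6 H) (.cons (ok7 H) .nil))))))))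
    (fa_cons (pcov (by norm_num) (cov2 H) (fa_cons ((.head _)) (fa_cons ((.tail _ (.head _))) fa_nil))) (fa_cons (pcov (by norm_num) (cov3 H) (fa_cons ((.tail _ (.tail _ (.head _)))) fa_nil)) (fa_cons (pcov (by norm_num) (cov5 H) (fa_cons ((.tail _ (.tail _ (.tail _ (.head _))))) (fa_cons ((.tail _ (.tail _ (.tail _ (.tail _ (.head _)))))) (fa_cons ((.tail _ (.tail _ (.tail _ (.tail _ (.tail _ (.head _))))))) fa_nil)))) (fa_cons (pcov (by norm_num) (cov7 H) (fa_cons ((.tail _ (.tail _ (.tail _ (.tail _ (.tail _ (.tail _ (.head _)))))))) fa_nil)) (fa_cons (pcov (by norm_num) (cov11 H) (fa_cons ((.tail _ (.tail _ (.tail _ (.tail _ (.tail _ (.tail _ (.tail _ (.head _))))))))) fa_nil)) fa_nil)))))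

theorem big : ∀ c : G, (orderOf c).Prime → orderOf c ∣ 125 → Dn c 1 49 :=
  big_of (F := [(5, 3)]) (by norm_num)
    (fa_cons (pcov (by norm_num) (cov5 H) (fa_cons ((ok3 H).big (by norm_num) (by norm_num)) (fa_cons ((ok4 H).big (by norm_num) (by norm_num)) (fa_cons ((ok5 H).big (by norm_num) (by norm_num)) fa_nil)))) fa_nil)

theorem row [IsSimpleGroup G] (hK : ¬ IsMulCommutative G) (ho : Nat.card (Out G) ≤ 2) : Row G :=
  (sheet H).row_two hK ho (by norm_num) (hB0 H).2 (a := 354816) (by norm_num) (by norm_num) (big H)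
    (by simp only [List.map, List.sum_cons, List.sum_nil, Rc.term]; norm_num)

end Cfsg.Agent.SB.SporF.HS
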